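/-
The transformation law for the Gaussian sum of a positive definite unimodular integral quadratic form,
by Poisson summation on the torus.
-/
import Mathlib
set_option autoImplicit false

namespace Cfsg.Agent.Theta

open scoped Matrix Real
open Matrix Complex MeasureTheory

variable {n : ℕ}

/-- The vector of real numbers of an integer vector. -/
def castVec (k : Fin n → ℤ) : Fin n → ℝ := fun i => (k i : ℝ)

/-- The sum of squares. -/
def sumSq (x : Fin n → ℝ) : ℝ := ∑ i, x i ^ 2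

theorem sumSq_nonneg (x : Fin n → ℝ) : 0 ≤ sumSq x := Finset.sum_nonneg fun _ _ => sq_nonneg _

theorem summable_prod_fin {f : ℤ → ℝ} (hf : Summable f) (h0 : ∀ m, 0 ≤ f m) :
    ∀ n, Summable fun k : Fin n → ℤ => ∏ i, f (k i)
  | 0 => Summable.of_finite
  | n + 1 => by
    have h := Summable.mul_of_nonneg hf (summable_prod_fin hf h0 n) h0
      fun k => Finset.prod_nonneg fun i _ => h0 _
    rw [← (Fin.consEquiv fun _ : Fin (n + 1) => ℤ).summable_iff]
    refine h.congr fun p => ?_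
    simp [Fin.prod_univ_succ]

theorem summable_exp_sq {t : ℝ} (ht : 0 < t) : Summable fun m : ℤ => Real.exp (-t * (m : ℝ) ^ 2) := by
  have key : Summable fun j : ℕ => Real.exp (-t * ((j : ℤ) : ℝ) ^ 2) := by
    refine Summable.of_nonneg_of_le (fun j => (Real.exp_pos _).le) (fun j => Real.exp_le_exp.2 ?_)
      (Real.summable_exp_nat_mul_iff.2 (neg_neg_of_pos ht))
    push_cast
    rcases Nat.eq_zero_or_pos j with h | h
    · simp [h]
    · have h1 : (1 : ℝ) ≤ j := by exact_mod_cast h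
      nlinarith [mul_nonneg (mul_nonneg ht.le (zero_le_one.trans h1)) (sub_nonneg.2 h1)]
  exact Summable.of_nat_of_neg key (key.congr fun j => by push_cast; ring_nf)

theorem summable_exp_sumSq {t : ℝ} (ht : 0 < t) :
    Summable fun k : Fin n → ℤ => Real.exp (-t * sumSq (castVec k)) := by
  refine (summable_prod_fin (summable_exp_sq ht) (fun _ => (Real.exp_pos _).le) n).congr fun k => ?_
  rw [← Real.exp_sum, sumSq, Finset.mul_sum]
  rfl

/-- A Gram factorisation of an integral form. -/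
structure Gram (n : ℕ) where
  B : Matrix (Fin n) (Fin n) ℤ
  A : Matrix (Fin n) (Fin n) ℝ
  fac : B.map (fun z : ℤ => (z : ℝ)) = Aᵀ * A
  unim : B.det = 1

variable (G : Gram n)

/-- The integral form. -/
def Gram.q (k : Fin n → ℤ) : ℤ := k ⬝ᵥ (G.B *ᵥ k)

/-- The real form. -/
def Gram.Q (x : Fin n → ℝ) : ℝ := sumSq (G.A *ᵥ x)

theorem Gram.castVec_mulVec (k : Fin n → ℤ) : castVec (G.B *ᵥ k) = (G.Aᵀ * G.A) *ᵥ castVec k := by
  rw [← G.fac]
  funext i
  simp [castVec, Matrix.mulVec, dotProduct]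

theorem Gram.dot_eq (k : Fin n → ℤ) (x : Fin n → ℝ) :
    castVec (G.B *ᵥ k) ⬝ᵥ x = (G.A *ᵥ castVec k) ⬝ᵥ (G.A *ᵥ x) := by
  rw [G.castVec_mulVec, ← Matrix.mulVec_mulVec, Matrix.mulVec_transpose, ← Matrix.dotProduct_mulVec]

theorem Gram.q_cast (k : Fin n → ℤ) : (G.q k : ℝ) = G.Q (castVec k) := by
  have h := G.dot_eq k (castVec k)
  rw [dotProduct_comm] at h
  rw [Gram.Q, sumSq]
  calc (G.q k : ℝ) = castVec k ⬝ᵥ castVec (G.B *ᵥ k) := by
        simp [Gram.q, dotProduct, castVec]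
    _ = _ := by rw [h]; simp [dotProduct, pow_two]

theorem Gram.det_sq : G.A.det * G.A.det = 1 := by
  have h := congrArg Matrix.det G.fac
  rw [Matrix.det_mul, Matrix.det_transpose] at h
  rw [← h, show (G.B.map fun z : ℤ => (z : ℝ)).det = (G.B.det : ℝ) from
    (RingHom.map_det (Int.castRingHom ℝ) G.B).symm, G.unim]
  simp

theorem Gram.isUnit_det : IsUnit G.A.det := isUnit_iff_ne_zero.2 (left_ne_zero_of_mul_eq_one G.det_sq)

theorem Gram.lower : ∃ c > 0, ∀ x, c * sumSq x ≤ G.Q x := by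
  set N := G.A⁻¹
  set M : ℝ := (∑ i, ∑ j, N i j ^ 2) + 1 with hM
  have hM0 : 0 < M := by positivity
  refine ⟨M⁻¹, inv_pos.2 hM0, fun x => ?_⟩
  rw [inv_mul_le_iff₀ hM0]
  have hx : x = N *ᵥ (G.A *ᵥ x) := by
    rw [Matrix.mulVec_mulVec, Matrix.nonsing_inv_mul _ G.isUnit_det, Matrix.one_mulVec]
  conv_lhs => rw [hx]
  calc sumSq (N *ᵥ (G.A *ᵥ x)) ≤ ∑ i, (∑ j, N i j ^ 2) * ∑ j, (G.A *ᵥ x) j ^ 2 :=
        Finset.sum_le_sum fun i _ => Finset.sum_mul_sq_le_sq_mul_sq Finset.univ (fun j => N i j) (G.A *ᵥ x)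
    _ = (M - 1) * G.Q x := by rw [← Finset.sum_mul, hM, add_sub_cancel_right]; rfl
    _ ≤ M * G.Q x := mul_le_mul_of_nonneg_right (by linarith) (sumSq_nonneg _)

theorem Gram.summable_exp {t : ℝ} (ht : 0 < t) : Summable fun k => Real.exp (-t * G.q k) := by
  obtain ⟨c, hc, h⟩ := G.lower
  refine Summable.of_nonneg_of_le (fun _ => (Real.exp_pos _).le) (fun k => Real.exp_le_exp.2 ?_)
    (summable_exp_sumSq (mul_pos ht hc))
  rw [G.q_cast]
  nlinarith [h (castVec k)]

/-- The Gaussian of the form. -/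
noncomputable def Gram.gauss (a : ℂ) (x : Fin n → ℝ) : ℂ := cexp (-((π : ℂ) * a) * (G.Q x : ℂ))

theorem Gram.continuous_gauss (a : ℂ) : Continuous (G.gauss a) := by
  unfold Gram.gauss Gram.Q sumSq
  fun_prop

theorem Gram.norm_gauss (a : ℂ) (x : Fin n → ℝ) : ‖G.gauss a x‖ = Real.exp (-(π * a.re) * G.Q x) := by
  simp [Gram.gauss, Complex.norm_exp, Complex.mul_re]

theorem Gram.gauss_translate_le {a : ℂ} (ha : 0 < a.re) :
    ∃ c > 0, ∀ x k, ‖G.gauss a (x + castVec k)‖ ≤
      Real.exp (c * sumSq x) * Real.exp (-(c / 2) * sumSq (castVec k)) := by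
  obtain ⟨c, hc, h⟩ := G.lower
  refine ⟨π * a.re * c, by positivity, fun x k => ?_⟩
  rw [G.norm_gauss, ← Real.exp_add, Real.exp_le_exp]
  have h1 : sumSq (castVec k) / 2 - sumSq x ≤ sumSq (x + castVec k) := by
    simp only [sumSq, Finset.sum_div, ← Finset.sum_sub_distrib]
    refine Finset.sum_le_sum fun i _ => ?_
    simp only [Pi.add_apply]
    nlinarith [sq_nonneg (2 * x i + castVec k i)]
  have h2 := mul_le_mul_of_nonneg_left ((mul_le_mul_of_nonneg_left h1 hc.le).trans (h (x + castVec k)))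
    (mul_nonneg Real.pi_pos.le ha.le)
  nlinarith [h2]

theorem Gram.summable_gauss {a : ℂ} (ha : 0 < a.re) (x : Fin n → ℝ) :
    Summable fun k => G.gauss a (x + castVec k) := by
  obtain ⟨c, hc, h⟩ := G.gauss_translate_le ha
  exact Summable.of_norm_bounded ((summable_exp_sumSq (half_pos hc)).mul_left _) fun k => h x k

theorem Gram.continuous_periodic {a : ℂ} (ha : 0 < a.re) :
    Continuous fun x => ∑' k, G.gauss a (x + castVec k) := by
  obtain ⟨c, hc, h⟩ := G.gauss_translate_le ha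
  rw [continuous_iff_continuousAt]
  intro x₀
  have hopen : IsOpen {x : Fin n → ℝ | sumSq x < sumSq x₀ + 1} := by
    refine isOpen_lt ?_ continuous_const
    unfold sumSq; fun_prop
  refine ContinuousOn.continuousAt ?_ (hopen.mem_nhds (show sumSq x₀ < sumSq x₀ + 1 from lt_add_one _))
  refine continuousOn_tsum (fun k => ((G.continuous_gauss a).comp (by fun_prop)).continuousOn)
    ((summable_exp_sumSq (half_pos hc)).mul_left (Real.exp (c * (sumSq x₀ + 1)))) fun k x hx => ?_
  exact (h x k).trans (mul_le_mul_of_nonneg_right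
    (Real.exp_le_exp.2 (mul_le_mul_of_nonneg_left (le_of_lt hx) hc.le)) (Real.exp_pos _).le)

/-- The projection to the torus. -/
def toTorus (x : Fin n → ℝ) : UnitAddTorus (Fin n) := fun i => (x i : UnitAddCircle)

theorem toTorus_quotient : IsOpenQuotientMap (toTorus (n := n)) :=
  IsOpenQuotientMap.piMap fun _ => QuotientAddGroup.isOpenQuotientMap_mk

theorem toTorus_eq {x y : Fin n → ℝ} (h : toTorus x = toTorus y) : ∃ m : Fin n → ℤ, y = x + castVec m := by
  have hi : ∀ i, ∃ m : ℤ, y i = x i + m := fun i => by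
    have h1 : (((y i - x i : ℝ)) : UnitAddCircle) = 0 := by
      rw [AddCircle.coe_sub, sub_eq_zero]
      exact (congrFun h i).symm
    obtain ⟨m, hm⟩ := (AddCircle.coe_eq_zero_iff 1).1 h1
    exact ⟨m, by rw [zsmul_one] at hm; linarith⟩
  choose m hm using hi
  exact ⟨m, funext hm⟩

theorem periodic_shift (g : (Fin n → ℝ) → ℂ) (x : Fin n → ℝ) (m : Fin n → ℤ) :
    ∑' k, g (x + castVec m + castVec k) = ∑' k, g (x + castVec k) := by
  refine Eq.trans (tsum_congr fun k => ?_) ((Equiv.addLeft m).tsum_eq fun k => g (x + castVec k))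
  congr 1
  funext i
  simp only [Equiv.coe_addLeft, castVec, Pi.add_apply]
  push_cast
  ring

theorem exists_periodisation {a : ℂ} (ha : 0 < a.re) :
    ∃ F : C(UnitAddTorus (Fin n), ℂ), ∀ x, F (toTorus x) = ∑' k, G.gauss a (x + castVec k) := by
  set P : C(Fin n → ℝ, ℂ) := ⟨_, G.continuous_periodic ha⟩ with hP
  have hper : Function.FactorsThrough (P : (Fin n → ℝ) → ℂ) (toTorus (n := n)) := by
    intro x y h
    obtain ⟨m, rfl⟩ := toTorus_eq h
    exact (periodic_shift (G.gauss a) x m).symm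
  let f : C(Fin n → ℝ, UnitAddTorus (Fin n)) := ⟨toTorus, toTorus_quotient.continuous⟩
  have hf : Topology.IsQuotientMap f := toTorus_quotient.isQuotientMap
  exact ⟨hf.lift P hper, fun x => ContinuousMap.congr_fun (hf.lift_comp P hper) x⟩

/-- A character of the torus pulled back to space. -/
noncomputable def echar (m : Fin n → ℤ) (x : Fin n → ℝ) : ℂ :=
  cexp (∑ i, (-(2 * (π : ℂ) * I)) * (m i : ℂ) * (x i : ℂ))

theorem echar_eq (m : Fin n → ℤ) (x : Fin n → ℝ) : UnitAddTorus.mFourier (-m) (toTorus x) = echar m x := by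
  show ∏ i, fourier ((-m) i) (x i : UnitAddCircle) = _
  rw [echar, Complex.exp_sum]
  refine Finset.prod_congr rfl fun i _ => ?_
  rw [fourier_coe_apply]
  congr 1
  simp only [Pi.neg_apply, Int.cast_neg]
  push_cast
  ring

theorem echar_add (m k : Fin n → ℤ) (x : Fin n → ℝ) : echar m (x + castVec k) = echar m x := by
  have : ∑ i, (-(2 * (π : ℂ) * I)) * (m i : ℂ) * ((x + castVec k) i : ℂ)
      = (∑ i, (-(2 * (π : ℂ) * I)) * (m i : ℂ) * (x i : ℂ)) + ((-(m ⬝ᵥ k) : ℤ) : ℂ) * (2 * π * I) := by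
    rw [dotProduct, ← Finset.sum_neg_distrib, Int.cast_sum, Finset.sum_mul, ← Finset.sum_add_distrib]
    refine Finset.sum_congr rfl fun i _ => ?_
    simp only [Pi.add_apply, castVec]
    push_cast
    ring
  rw [echar, echar, this, Complex.exp_add, Complex.exp_int_mul_two_pi_mul_I, mul_one]

theorem norm_echar (m : Fin n → ℤ) (x : Fin n → ℝ) : ‖echar m x‖ = 1 := by
  simp [echar, Complex.norm_exp, Complex.re_sum, Complex.mul_re, Complex.mul_im]

theorem Gram.measurePreserving : MeasurePreserving (fun x : Fin n → ℝ => G.A *ᵥ x) volume volume := by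
  refine ⟨(by fun_prop : Continuous fun x : Fin n → ℝ => G.A *ᵥ x).measurable, ?_⟩
  show Measure.map (Matrix.toLin' G.A) volume = volume
  rw [Real.map_matrix_volume_pi_eq_smul_volume_pi (left_ne_zero_of_mul_eq_one G.det_sq)]
  have h1 : |G.A.det⁻¹| = 1 := by
    rw [abs_inv, (abs_eq zero_le_one).2 (mul_self_eq_one_iff.1 G.det_sq), inv_one]
  rw [h1, ENNReal.ofReal_one, one_smul]

theorem Gram.measurableEmbedding : MeasurableEmbedding fun x : Fin n → ℝ => G.A *ᵥ x :=
  (by fun_prop : Continuous fun x : Fin n → ℝ => G.A *ᵥ x).measurableEmbedding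
    (Matrix.mulVec_injective_iff_isUnit.2 ((Matrix.isUnit_iff_isUnit_det _).2 G.isUnit_det))

theorem Gram.integral_char {h : ℕ} (hn : n = 2 * h) {a : ℂ} (ha : 0 < a.re) (k : Fin n → ℤ) :
    Integrable (fun x => echar (G.B *ᵥ k) x * G.gauss a x) ∧
      ∫ x, echar (G.B *ᵥ k) x * G.gauss a x = a⁻¹ ^ h * cexp (-((π : ℂ) * a⁻¹) * (G.q k : ℂ)) := by
  have hb : 0 < ((π : ℂ) * a).re := by rw [Complex.re_ofReal_mul]; positivity
  set w := G.A *ᵥ castVec k with hw
  set c : Fin n → ℂ := fun i => -(2 * (π : ℂ) * I) * (w i : ℂ) with hc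
  set g : (Fin n → ℝ) → ℂ := fun v => cexp (-((π : ℂ) * a) * ∑ i, (v i : ℂ) ^ 2 + ∑ i, c i * v i) with hg
  have heq : (fun x => echar (G.B *ᵥ k) x * G.gauss a x) = g ∘ fun x => G.A *ᵥ x := by
    funext x
    have h1 : ∑ i, ((G.B *ᵥ k) i : ℂ) * (x i : ℂ) = ∑ i, (w i : ℂ) * ((G.A *ᵥ x) i : ℂ) := by
      have := congrArg Complex.ofReal (G.dot_eq k x)
      simpa [dotProduct, castVec, hw] using this
    rw [echar, Gram.gauss, ← Complex.exp_add, Function.comp_apply, hg]
    simp only [Gram.Q, sumSq, hc, Complex.ofReal_sum, Complex.ofReal_pow, mul_assoc, ← Finset.mul_sum, h1]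
    rw [add_comm]
  have hint : Integrable g := GaussianFourier.integrable_cexp_neg_mul_sum_add hb c
  have hpow : ((π : ℂ) / ((π : ℂ) * a)) ^ ((Fintype.card (Fin n) : ℂ) / 2) = a⁻¹ ^ h := by
    rw [Fintype.card_fin, hn, Nat.cast_mul, Nat.cast_ofNat, mul_div_cancel_left₀ _ two_ne_zero,
      Complex.cpow_natCast]
    congr 1
    field_simp [Complex.ofReal_ne_zero.2 Real.pi_ne_zero]
  refine ⟨?_, ?_⟩
  · rw [heq]
    exact (G.measurePreserving.integrable_comp_emb G.measurableEmbedding).2 hint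
  · rw [heq]
    show ∫ x, g (G.A *ᵥ x) = _
    rw [G.measurePreserving.integral_comp G.measurableEmbedding g, hg, GaussianFourier.integral_cexp_neg_mul_sum_add hb c, hpow]
    congr 2
    have h2 : ∑ i, c i ^ 2 = -(4 * (π : ℂ) ^ 2) * (G.q k : ℂ) := by
      rw [show (G.q k : ℂ) = ((G.q k : ℝ) : ℂ) from (Complex.ofReal_intCast _).symm, G.q_cast, Gram.Q, sumSq,
        Complex.ofReal_sum, Finset.mul_sum]
      refine Finset.sum_congr rfl fun i _ => ?_
      rw [hc, hw, Complex.ofReal_pow]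
      linear_combination (4 * (π : ℂ) ^ 2 * ((G.A *ᵥ castVec k) i : ℂ) ^ 2) * Complex.I_sq
    rw [h2]
    have : a ≠ 0 := fun e => by simp [e] at ha
    field_simp [Complex.ofReal_ne_zero.2 Real.pi_ne_zero]

/-- The translated unit boxes. -/
def box (k : Fin n → ℤ) : Set (Fin n → ℝ) := {x | ∀ i, x i ∈ Set.Ioc (k i : ℝ) (k i + 1)}

theorem box_measurable (k : Fin n → ℤ) : MeasurableSet (box k) :=
  MeasurableSet.univ_pi' fun _ => measurableSet_Ioc

theorem box_disjoint : Pairwise (Function.onFun Disjoint (box (n := n))) := by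
  intro k l hkl
  rw [Function.onFun, Set.disjoint_left]
  refine fun x hx hy => hkl (funext fun i => ?_)
  obtain ⟨a1, a2⟩ := hx i
  obtain ⟨b1, b2⟩ := hy i
  have e1 : (k i : ℝ) < (l i + 1 : ℤ) := by push_cast; linarith
  have e2 : (l i : ℝ) < (k i + 1 : ℤ) := by push_cast; linarith
  rw [Int.cast_lt] at e1 e2
  omega

theorem box_union : ⋃ k, box (n := n) k = Set.univ :=
  Set.eq_univ_of_forall fun x => Set.mem_iUnion.2 ⟨fun i => ⌈x i⌉ - 1, fun i => by
    simp only [Set.mem_Ioc, Int.cast_sub, Int.cast_one, sub_add_cancel]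
    exact ⟨by linarith [Int.ceil_lt_add_one (x i)], Int.le_ceil _⟩⟩

theorem setIntegral_box {E : Type*} [NormedAddCommGroup E] [NormedSpace ℝ E] (f : (Fin n → ℝ) → E)
    (k : Fin n → ℤ) : ∫ x in box k, f x = ∫ x in box 0, f (x + castVec k) := by
  have h := (measurePreserving_add_right volume (castVec k)).setIntegral_preimage_emb
    (MeasurableEquiv.addRight (castVec k)).measurableEmbedding f (box k)
  rw [← h]
  congr 2
  ext x
  refine forall_congr' fun i => ?_
  simp only [Set.mem_Ioc, castVec, Pi.add_apply, Pi.zero_apply, Int.cast_zero, zero_add]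
  constructor <;> rintro ⟨h1, h2⟩ <;> constructor <;> linarith

theorem hasSum_box {E : Type*} [NormedAddCommGroup E] [NormedSpace ℝ E] {f : (Fin n → ℝ) → E}
    (hf : Integrable f) : HasSum (fun k => ∫ x in box 0, f (x + castVec k)) (∫ x, f x) := by
  have h := hasSum_integral_iUnion (μ := volume) (f := f) box_measurable box_disjoint
    (by rw [box_union]; exact hf.integrableOn)
  rw [box_union, setIntegral_univ] at h
  simpa only [setIntegral_box f] using h

theorem Gram.coeff {h : ℕ} (hn : n = 2 * h) {a : ℂ} (ha : 0 < a.re) (k : Fin n → ℤ)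
    (F : C(UnitAddTorus (Fin n), ℂ)) (hF : ∀ x, F (toTorus x) = ∑' j, G.gauss a (x + castVec j)) :
    UnitAddTorus.mFourierCoeff F (G.B *ᵥ k) = a⁻¹ ^ h * cexp (-((π : ℂ) * a⁻¹) * (G.q k : ℂ)) := by
  obtain ⟨hint, hval⟩ := G.integral_char hn ha k
  set m := G.B *ᵥ k
  set f := fun x => echar m x * G.gauss a x with hfdef
  have h1 := (hasSum_box hint.norm).summable
  have h2 : ∀ j, Integrable (fun x => f (x + castVec j)) (volume.restrict (box 0)) := fun j =>
    (hint.comp_add_right (castVec j)).restrict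
  have h3 := integral_tsum_of_summable_integral_norm h2 h1
  rw [(hasSum_box hint).tsum_eq, hval] at h3
  rw [h3, UnitAddTorus.mFourierCoeff_eq_integral _ _ (fun _ => 0)]
  have hb : box (0 : Fin n → ℤ) = {x : Fin n → ℝ | ∀ i, x i ∈ Set.Ioc ((fun _ => (0 : ℝ)) i) ((fun _ => (0 : ℝ)) i + 1)} := by
    ext x
    simp [box]
  rw [← hb]
  refine setIntegral_congr_fun (box_measurable 0) fun x _ => ?_
  show UnitAddTorus.mFourier (-m) (toTorus x) • F (toTorus x) = ∑' j, f (x + castVec j)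
  rw [echar_eq, hF, smul_eq_mul, ← tsum_mul_left]
  exact tsum_congr fun j => by rw [hfdef]; simp only [echar_add]

/-- The bijection k ↦ B k of integer vectors. -/
noncomputable def Gram.equivB : (Fin n → ℤ) ≃ (Fin n → ℤ) where
  toFun k := G.B *ᵥ k
  invFun k := G.B⁻¹ *ᵥ k
  left_inv k := by
    show G.B⁻¹ *ᵥ (G.B *ᵥ k) = k
    rw [Matrix.mulVec_mulVec, Matrix.nonsing_inv_mul _ (by rw [G.unim]; exact isUnit_one), Matrix.one_mulVec]
  right_inv k := by
    show G.B *ᵥ (G.B⁻¹ *ᵥ k) = k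
    rw [Matrix.mulVec_mulVec, Matrix.mul_nonsing_inv _ (by rw [G.unim]; exact isUnit_one), Matrix.one_mulVec]

/-- The transformation law. -/
theorem Gram.theta_transform {h : ℕ} (hn : n = 2 * h) {a : ℂ} (ha : 0 < a.re) :
    ∑' k, cexp (-((π : ℂ) * a) * (G.q k : ℂ)) =
      a⁻¹ ^ h * ∑' k, cexp (-((π : ℂ) * a⁻¹) * (G.q k : ℂ)) := by
  obtain ⟨F, hF⟩ := exists_periodisation G ha
  have hinv : 0 < a⁻¹.re := by
    rw [Complex.inv_re]
    exact div_pos ha (Complex.normSq_pos.2 fun e => by simp [e] at ha)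
  have hs : Summable fun k => a⁻¹ ^ h * cexp (-((π : ℂ) * a⁻¹) * (G.q k : ℂ)) := by
    refine Summable.mul_left _ (Summable.of_norm ?_)
    refine (G.summable_exp (mul_pos Real.pi_pos hinv)).congr fun k => ?_
    simp [Complex.norm_exp, Complex.mul_re]
  have hcoef : Summable (UnitAddTorus.mFourierCoeff F) := by
    rw [← G.equivB.summable_iff]
    exact hs.congr fun k => (G.coeff hn ha k F hF).symm
  have hsum := (UnitAddTorus.hasSum_mFourier_series_apply_of_summable hcoef (toTorus 0)).tsum_eq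
  rw [hF, ← G.equivB.tsum_eq] at hsum
  rw [← tsum_mul_left]
  have h0 : ∀ k, G.gauss a (0 + castVec k) = cexp (-((π : ℂ) * a) * (G.q k : ℂ)) := fun k => by
    rw [zero_add, Gram.gauss, ← G.q_cast, Complex.ofReal_intCast]
  rw [← tsum_congr h0, ← hsum]
  refine tsum_congr fun k => ?_
  have hone : UnitAddTorus.mFourier (G.equivB k) (toTorus (0 : Fin n → ℝ)) = 1 := by
    show ∏ i, fourier (G.equivB k i) ((0 : Fin n → ℝ) i : UnitAddCircle) = 1
    simp
  rw [hone, smul_eq_mul, mul_one]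
  exact G.coeff hn ha k F hF

end Cfsg.Agent.Theta
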