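/-
The theta series of an even unimodular form in dimension 24 is a modular form of weight 12; if the
form has no roots this determines the numbers of vectors of norms 4, 6 and 8.
-/
import Cfsg.Agent.Lib.Theta.Poisson
set_option autoImplicit false

namespace Cfsg.Agent.Theta

open scoped Matrix Real MatrixGroups
open Matrix Complex ModularForm EisensteinSeries
open UpperHalfPlane hiding I

theorem exists_gram {n : ℕ} (B : Matrix (Fin n) (Fin n) ℤ) (hsymm : B.IsSymm)
    (hpos : ∀ x : Fin n → ℤ, x ≠ 0 → 0 < x ⬝ᵥ (B *ᵥ x)) (hdet : B.det = 1) :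
    ∃ G : Gram n, G.B = B := by
  classical
  set R := B.map (fun z : ℤ => (z : ℝ)) with hR
  have hint : ∀ k : Fin n → ℤ, castVec k ⬝ᵥ (R *ᵥ castVec k) = ((k ⬝ᵥ (B *ᵥ k) : ℤ) : ℝ) := fun k => by
    simp [hR, castVec, dotProduct, Matrix.mulVec]
  have hnn : ∀ k : Fin n → ℤ, 0 ≤ k ⬝ᵥ (B *ᵥ k) := fun k => by
    rcases eq_or_ne k 0 with rfl | hk
    · simp
    · exact (hpos k hk).le
  have hrat : ∀ q : Fin n → ℚ, 0 ≤ (fun i => (q i : ℝ)) ⬝ᵥ (R *ᵥ fun i => (q i : ℝ)) := by
    intro q
    set N : ℕ := ∏ i, (q i).den with hN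
    have hN0 : (N : ℝ) ≠ 0 := Nat.cast_ne_zero.2 (Finset.prod_ne_zero_iff.2 fun i _ => (q i).den_nz)
    set k : Fin n → ℤ := fun i => (q i).num * ((∏ j ∈ Finset.univ.erase i, (q j).den : ℕ) : ℤ) with hk
    have hkq : castVec k = (N : ℝ) • fun i => (q i : ℝ) := by
      funext i
      rw [Pi.smul_apply, smul_eq_mul, castVec, hk, hN,
        ← Finset.mul_prod_erase _ (fun j => (q j).den) (Finset.mem_univ i)]
      have : ((q i).den : ℝ) * (q i : ℝ) = ((q i).num : ℝ) := by
        rw [Rat.cast_def, mul_div_cancel₀]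
        exact Nat.cast_ne_zero.2 (q i).den_nz
      push_cast
      linear_combination -((∏ j ∈ Finset.univ.erase i, ((q j).den : ℝ))) * this
    have h1 : (0 : ℝ) ≤ castVec k ⬝ᵥ (R *ᵥ castVec k) := by
      rw [hint]; exact_mod_cast hnn k
    rw [hkq, Matrix.mulVec_smul, smul_dotProduct, dotProduct_smul, smul_eq_mul, smul_eq_mul,
      ← mul_assoc] at h1
    exact nonneg_of_mul_nonneg_right h1 (mul_self_pos.2 hN0)
  have hpsd : R.PosSemidef := by
    refine Matrix.PosSemidef.of_dotProduct_mulVec_nonneg ?_ fun x => ?_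
    · exact Matrix.IsHermitian.ext fun i j => by
        simp only [hR, Matrix.map_apply, star_trivial, hsymm.apply i j]
    · rw [star_trivial]
      have hd : DenseRange (Pi.map fun _ : Fin n => (Rat.cast : ℚ → ℝ)) :=
        DenseRange.piMap fun _ => Rat.denseRange_cast
      have hc : IsClosed {x : Fin n → ℝ | 0 ≤ x ⬝ᵥ (R *ᵥ x)} := by
        refine isClosed_le continuous_const ?_
        simp only [dotProduct, Matrix.mulVec]
        fun_prop
      exact hd.induction_on x hc fun q => hrat q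
  obtain ⟨A, hA⟩ : ∃ A : Matrix (Fin n) (Fin n) ℝ, R = Aᴴ * A := by
    open scoped MatrixOrder Matrix.Norms.L2Operator in
    exact CStarAlgebra.nonneg_iff_eq_star_mul_self.mp hpsd.nonneg
  exact ⟨⟨B, A, by rw [← hR, hA, Matrix.conjTranspose_eq_transpose_of_trivial], hdet⟩, rfl⟩

variable {n : ℕ} (G : Gram n)

theorem Gram.q_nonneg (k : Fin n → ℤ) : 0 ≤ G.q k := by
  have : (0 : ℝ) ≤ (G.q k : ℝ) := by rw [G.q_cast]; exact sumSq_nonneg _
  exact_mod_cast this

theorem Gram.finite_le (N : ℤ) : {k | G.q k ≤ N}.Finite := by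
  have h := (G.summable_exp one_pos).tendsto_cofinite_zero
  have h2 := (h.eventually (gt_mem_nhds (Real.exp_pos (-(1 : ℝ) * N))))
  rw [Filter.eventually_cofinite] at h2
  refine h2.subset fun k hk => ?_
  simp only [Set.mem_setOf_eq, not_lt, Real.exp_le_exp]
  have : (G.q k : ℝ) ≤ N := by exact_mod_cast hk
  linarith

theorem Gram.zero_q : G.q 0 = 0 := by simp [Gram.q]

theorem Gram.eq_zero_of_q (k : Fin n → ℤ) (h : G.q k = 0) : k = 0 := by
  obtain ⟨c, hc, hl⟩ := G.lower
  have h1 := hl (castVec k)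
  rw [← G.q_cast, h, Int.cast_zero] at h1
  have h2 : sumSq (castVec k) = 0 :=
    le_antisymm (nonpos_of_mul_nonpos_right h1 hc) (sumSq_nonneg _)
  funext i
  have h3 := (Finset.sum_eq_zero_iff_of_nonneg fun i _ => sq_nonneg (castVec k i)).1 h2 i (Finset.mem_univ _)
  simpa [castVec] using h3

/-- The theta series. -/
noncomputable def Gram.theta (z : ℂ) : ℂ := ∑' k, cexp ((π : ℂ) * I * (G.q k : ℂ) * z)

theorem Gram.norm_term (k : Fin n → ℤ) (z : ℂ) :
    ‖cexp ((π : ℂ) * I * (G.q k : ℂ) * z)‖ = Real.exp (-(π * z.im) * G.q k) := by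
  rw [Complex.norm_exp]
  congr 1
  simp [Complex.mul_re, Complex.mul_im]
  ring

theorem Gram.summable_term {z : ℂ} (hz : 0 < z.im) :
    Summable fun k => cexp ((π : ℂ) * I * (G.q k : ℂ) * z) :=
  Summable.of_norm (by simpa [G.norm_term] using G.summable_exp (mul_pos Real.pi_pos hz))

/-- The number of vectors of norm 2m. -/
noncomputable def Gram.count (m : ℕ) : ℕ := {k | G.q k = 2 * (m : ℤ)}.ncard

theorem Gram.hasSum_theta (heven : ∀ k, (2 : ℤ) ∣ G.q k) (τ : ℍ) :
    HasSum (fun m : ℕ => (G.count m : ℂ) • Function.Periodic.qParam 1 (τ : ℂ) ^ m) (G.theta τ) := by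
  let half : (Fin n → ℤ) → ℕ := fun k => (G.q k / 2).toNat
  have hhalf : ∀ k, G.q k = 2 * (half k : ℤ) := fun k => by
    have h1 := G.q_nonneg k
    obtain ⟨c, hc⟩ := heven k
    simp only [half, hc, Int.mul_ediv_cancel_left _ (two_ne_zero : (2 : ℤ) ≠ 0)]
    rw [Int.toNat_of_nonneg (by omega)]
  have hs := (G.summable_term τ.im_pos).hasSum
  refine HasSum.tsum_fiberwise hs half |>.congr_fun fun m => ?_
  have hset : half ⁻¹' {m} = {k | G.q k = 2 * (m : ℤ)} := by
    ext k
    simp only [Set.mem_preimage, Set.mem_singleton_iff, Set.mem_setOf_eq, hhalf k]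
    omega
  have hterm : ∀ b : half ⁻¹' {m}, cexp ((π : ℂ) * I * (G.q b.1 : ℂ) * τ) =
      Function.Periodic.qParam 1 (τ : ℂ) ^ m := fun b => by
    have hb : half b.1 = m := b.2
    rw [hhalf b.1, hb, Function.Periodic.qParam, ← Complex.exp_nat_mul]
    congr 1
    push_cast
    ring
  rw [tsum_congr hterm, tsum_const, hset, Nat.card_coe_set_eq, Gram.count]
  simp

theorem Gram.mdiff : DifferentiableOn ℂ G.theta {z : ℂ | 0 < z.im} := by
  intro z hz
  have hopen : IsOpen {w : ℂ | z.im / 2 < w.im} := isOpen_lt continuous_const Complex.continuous_im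
  have h : DifferentiableOn ℂ G.theta {w : ℂ | z.im / 2 < w.im} := by
    refine differentiableOn_tsum_of_summable_norm (G.summable_exp (mul_pos Real.pi_pos (half_pos hz)))
      (fun k => by fun_prop) hopen fun k w hw => ?_
    rw [G.norm_term, Real.exp_le_exp]
    have h1 : (0 : ℝ) ≤ G.q k := by exact_mod_cast G.q_nonneg k
    have h2 := mul_le_mul_of_nonneg_left (le_of_lt (hw : z.im / 2 < w.im)) Real.pi_pos.le
    nlinarith [mul_le_mul_of_nonneg_right h2 h1]
  exact (h.differentiableAt (hopen.mem_nhds (show z.im / 2 < z.im from half_lt_self hz))).differentiableWithinAt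

variable (G : Gram 24) (heven : ∀ k, (2 : ℤ) ∣ G.q k)
include heven
set_option linter.unusedSectionVars false

theorem Gram.slash_S : (fun z : ℍ => G.theta z) ∣[(12 : ℤ)] ModularGroup.S = fun z : ℍ => G.theta z := by
  funext z
  rw [SlashInvariantForm.slash_S_apply]
  set a : ℂ := -I * z with ha
  have hre : 0 < a.re := by simp [ha, Complex.mul_re, z.im_pos]
  have ha0 : a ≠ 0 := fun e => by simp [e] at hre
  have key := G.theta_transform (h := 12) (by norm_num) hre
  have hinv : a⁻¹ = -I * (-(z : ℂ))⁻¹ := by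
    rw [ha, mul_inv, inv_neg, inv_neg, Complex.inv_I]
    ring
  have e1 : ∑' k, cexp (-((π : ℂ) * a) * (G.q k : ℂ)) = G.theta z :=
    tsum_congr fun k => by rw [ha]; congr 1; ring
  have e2 : ∑' k, cexp (-((π : ℂ) * a⁻¹) * (G.q k : ℂ)) = G.theta (-(z : ℂ))⁻¹ :=
    tsum_congr fun k => by rw [hinv]; congr 1; ring
  rw [e1, e2] at key
  show G.theta (-(z : ℂ))⁻¹ * (z : ℂ) ^ (-(12 : ℤ)) = G.theta z
  have hpow : a ^ 12 = (z : ℂ) ^ 12 := by
    rw [ha, mul_pow, show (-I) ^ 12 = ((-I) ^ 4) ^ 3 by ring,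
      show (-I) ^ 4 = 1 by rw [show (-I) ^ 4 = (I ^ 2) ^ 2 by ring, Complex.I_sq]; ring, one_pow, one_mul]
  rw [key, inv_pow, hpow, _root_.zpow_neg, show (12 : ℤ) = ((12 : ℕ) : ℤ) from rfl, zpow_natCast, mul_comm]

theorem Gram.slash_T : (fun z : ℍ => G.theta z) ∣[(12 : ℤ)] ModularGroup.T = fun z : ℍ => G.theta z := by
  funext z
  rw [SL_slash_apply, modular_T_smul]
  simp only [UpperHalfPlane.coe_vadd, Complex.ofReal_one]
  rw [show UpperHalfPlane.denom ModularGroup.T z = 1 by
    show ((ModularGroup.T 1 0 : ℤ) : ℂ) * (z : ℂ) + ((ModularGroup.T 1 1 : ℤ) : ℂ) = 1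
    simp [ModularGroup.T], _root_.one_zpow, mul_one]
  refine tsum_congr fun k => ?_
  obtain ⟨c, hc⟩ := heven k
  rw [mul_add, Complex.exp_add, hc, show (π : ℂ) * I * ((2 * c : ℤ) : ℂ) * 1 = (c : ℂ) * (2 * π * I) by
    push_cast; ring, Complex.exp_int_mul_two_pi_mul_I, one_mul]

/-- The theta series as a modular form. -/
noncomputable def Gram.thetaForm : ModularForm 𝒮ℒ 12 where
  toFun z := G.theta z
  slash_action_eq' := fun _ ⟨γ, hγ⟩ =>
    hγ ▸ SlashInvariantForm.slash_action_generators_SL2Z (G.slash_S heven) (G.slash_T heven) γ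
  holo' := UpperHalfPlane.mdifferentiable_iff.2 <| G.mdiff.congr fun z hz => by
    show G.theta (ofComplex z : ℂ) = G.theta z
    rw [UpperHalfPlane.ofComplex_apply_of_im_pos hz]
  bdd_at_cusps' {c} hc := by
    rw [Subgroup.IsArithmetic.isCusp_iff_isCusp_SL2Z] at hc
    rw [OnePoint.isBoundedAt_iff_forall_SL2Z hc]
    intro γ _
    rw [SlashInvariantForm.slash_action_generators_SL2Z (G.slash_S heven) (G.slash_T heven) γ]
    exact isBoundedAtImInfty_of_hasSum_qExpansion one_pos (G.hasSum_theta heven)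

theorem Gram.thetaForm_coeff (m : ℕ) : (qExpansion 1 (G.thetaForm heven)).coeff m = (G.count m : ℂ) :=
  (ModularFormClass.qExpansion_coeff_unique one_pos one_mem_strictPeriods_SL
    (f := G.thetaForm heven) (G.hasSum_theta heven) m).symm

theorem Gram.counts (h2 : ∀ k, G.q k ≠ 2) :
    G.count 2 = 196560 ∧ G.count 3 = 16773120 ∧ G.count 4 = 398034000 := by
  let P : ModularForm 𝒮ℒ 12 := ModularForm.mcast (by decide) (E₄.pow 3)
  let Q : ModularForm 𝒮ℒ 12 := ModularForm.mcast (by decide) (E₆.pow 2)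
  let T := G.thetaForm heven
  let F : ModularForm 𝒮ℒ 12 := P - (5 / 12 : ℂ) • (P - Q)
  have hqP : qExpansion 1 P = qExpansion 1 E₄ ^ 3 := by
    simp only [P, coe_mcast, ModularForm.qExpansion_pow one_pos one_mem_strictPeriods_SL]
  have hqQ : qExpansion 1 Q = qExpansion 1 E₆ ^ 2 := by
    simp only [Q, coe_mcast, ModularForm.qExpansion_pow one_pos one_mem_strictPeriods_SL]
  have hqF : qExpansion 1 F = qExpansion 1 E₄ ^ 3 - (5 / 12 : ℂ) • (qExpansion 1 E₄ ^ 3 - qExpansion 1 E₆ ^ 2) := by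
    simp only [F, FunLike.coe_sub]
    rw [ModularForm.qExpansion_sub one_pos one_mem_strictPeriods_SL, FunLike.coe_smul,
      ModularForm.qExpansion_smul one_pos one_mem_strictPeriods_SL, FunLike.coe_sub,
      ModularForm.qExpansion_sub one_pos one_mem_strictPeriods_SL, hqP, hqQ]
  have hE4 : ∀ m, (qExpansion 1 E₄).coeff m =
      if m = 0 then 1 else 240 * (ArithmeticFunction.sigma 3 m : ℂ) := fun m => by
    rw [E₄, E_qExpansion_coeff _ ⟨2, rfl⟩]
    norm_num [bernoulli_eq_bernoulli'_of_ne_one, bernoulli'_four]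
  have hE6 : ∀ m, (qExpansion 1 E₆).coeff m =
      if m = 0 then 1 else -504 * (ArithmeticFunction.sigma 5 m : ℂ) := fun m => by
    rw [E₆, E_qExpansion_coeff _ ⟨3, rfl⟩]
    have : bernoulli' 6 = 1 / 42 := by
      rw [bernoulli'_def]
      norm_num [Finset.sum_range_succ, bernoulli'_zero, bernoulli'_one, bernoulli'_two, bernoulli'_three,
        bernoulli'_four, bernoulli'_eq_zero_of_odd, Nat.choose, show Odd 5 by decide]
    norm_num [bernoulli_eq_bernoulli'_of_ne_one, this]
  have hF : ∀ m, m ≤ 4 → (qExpansion 1 F).coeff m =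
      ([1, 0, 196560, 16773120, 398034000] : List ℂ).getD m 0 := by
    intro m hm
    rw [hqF]
    interval_cases m <;>
      simp [PowerSeries.coeff_mul, pow_succ, hE4, hE6, Finset.Nat.antidiagonal_succ,
        ArithmeticFunction.sigma_apply, Nat.divisors, Finset.sum_filter, Finset.sum_Ico_succ_top,
        -PowerSeries.coeff_zero_eq_constantCoeff] <;> norm_num
  have hc0 : G.count 0 = 1 := by
    rw [Gram.count, show {k | G.q k = 2 * ((0 : ℕ) : ℤ)} = {0} by
      ext k; exact ⟨fun h => G.eq_zero_of_q k (by simpa using h), fun h => by subst h; simp [G.zero_q]⟩]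
    exact Set.ncard_singleton 0
  have hc1 : G.count 1 = 0 := by
    rw [Gram.count, show {k | G.q k = 2 * ((1 : ℕ) : ℤ)} = ∅ by
      ext k; simp [h2 k]]
    exact Set.ncard_empty _
  have hdiff : T - F = 0 := by
    refine sturm_bound_levelOne_nat (k := 12) (f := T - F) ?_
    rw [FunLike.coe_sub, ModularForm.qExpansion_sub one_pos one_mem_strictPeriods_SL]
    refine lt_of_lt_of_le (b := ((2 : ℕ) : ℕ∞)) (by norm_num) (PowerSeries.nat_le_order _ _ fun i hi => ?_)
    rw [map_sub, G.thetaForm_coeff heven, hF i (by omega)]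
    interval_cases i <;> simp [hc0, hc1]
  have hT : ∀ m, m ≤ 4 → (G.count m : ℂ) = ([1, 0, 196560, 16773120, 398034000] : List ℂ).getD m 0 :=
    fun m hm => by rw [← G.thetaForm_coeff heven, ← hF m hm, show G.thetaForm heven = F from sub_eq_zero.1 hdiff]
  refine ⟨?_, ?_, ?_⟩
  · have h := hT 2 (by omega); simp only [List.getD_cons_succ, List.getD_cons_zero] at h; exact_mod_cast h
  · have h := hT 3 (by omega); simp only [List.getD_cons_succ, List.getD_cons_zero] at h; exact_mod_cast h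
  · have h := hT 4 (by omega); simp only [List.getD_cons_succ, List.getD_cons_zero] at h; exact_mod_cast h

end Cfsg.Agent.Theta
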